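/-
Words in the second Conway group, compared on the coordinate axes.
-/
import Cfsg.Agent.Lib.Leech.CoTwoMod
import Cfsg.Agent.Lib.Leech.Paths
import Cfsg.Agent.Lib.LeechOrbit.Basic
import Cfsg.Agent.Lib.StemSylow.CollectP

set_option autoImplicit false

namespace CfsgLib.CoTwoMult

open Cfsg CfsgGolay CfsgLeech CfsgLeechOrb
open scoped Pointwise

attribute [local irreducible] codeL octadL dodecadL slpCodes

/-- Forcing a number before use. -/
noncomputable def forceN {α : Type} (i : ℕ) (k : ℕ → α) : α :=
  Nat.rec (motive := fun _ => (ℕ → α) → α) (fun k => k 0) (fun n _ k => k (n + 1)) i k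

theorem forceN_eq {α : Type} (i : ℕ) (k : ℕ → α) : forceN i k = k i := by
  cases i <;> rfl

/-- The blocks of all points, packed. -/
def blkN : ℕ := 2249951298372138505073185611341328154348681611926486934115729734505546956696889496514782678166380572183601304182436806366980508691093294093666336

/-- A member of a block. -/
def blkPos (k q : ℕ) : ℕ := Nat.mod (Nat.shiftRight blkN (Nat.add (Nat.mul 20 k) (Nat.mul 5 q))) 32

theorem blk_ok : ∀ k < 24, blockPts.getD k [] = [blkPos k 0, blkPos k 1, blkPos k 2, blkPos k 3] := by decide +kernel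

/-- A field of the image under the involution, thirty-two if out of range. -/
noncomputable def zV (c k : ℕ) : ℕ :=
  forceN (Nat.div (Nat.add (pappF c (blkPos k 0)) (Nat.add (pappF c (blkPos k 1))
    (Nat.add (pappF c (blkPos k 2)) (pappF c (blkPos k 3))))) 2) fun h =>
  cond (bitF 147496 k) (cond (Nat.ble (pappF c k) h) (Nat.sub h (pappF c k)) 32)
    (cond (Nat.ble h (Nat.add (pappF c k) 32)) (Nat.sub (Nat.add (pappF c k) 32) h) 32)

/-- A field of the image under a monomial map, thirty-two if out of range. -/
noncomputable def mV (g m c k : ℕ) : ℕ :=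
  cond (Nat.blt (pappF g k) 24) (cond (bitF m k) (Nat.sub 32 (pappF c (pappF g k))) (pappF c (pappF g k))) 32

/-- A field of the image of a step. -/
noncomputable def stepV : Step → ℕ → ℕ → ℕ
  | none, c, k => zV c k
  | some (g, m), c, k => mV g m c k

/-- Packing on raw operations. -/
noncomputable def packF (f : ℕ → ℕ) (n : ℕ) : ℕ :=
  Nat.rec 0 (fun k a => Nat.add a (Nat.shiftLeft (f k) (Nat.mul 5 k))) n

theorem packF_eq (f : ℕ → ℕ) : ∀ n, packF f n = pack f n
  | 0 => rfl
  | n + 1 => by
    show packF f n + (f n) <<< (5 * n) = _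
    rw [packF_eq f n, Nat.shiftLeft_eq]
    rfl

/-- All fields are in range. -/
noncomputable def inRange (f : ℕ → ℕ) (n : ℕ) : Bool :=
  Nat.rec true (fun k a => cond (Nat.blt (f k) 32) a false) n

theorem inRange_spec (f : ℕ → ℕ) : ∀ n, inRange f n = true → ∀ k < n, f k < 32
  | 0, _, k, hk => absurd hk (Nat.not_lt_zero k)
  | n + 1, h, k, hk => by
    have h' : cond (Nat.blt (f n) 32) (inRange f n) false = true := h
    cases hb : Nat.blt (f n) 32 with
    | false => rw [hb] at h'; exact absurd h' (by simp)
    | true =>
      rw [hb] at h'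
      rcases Nat.lt_succ_iff_lt_or_eq.mp hk with hk | rfl
      · exact inRange_spec f n h' k hk
      · exact Nat.le_of_ble_eq_true hb

/-- A checked step; failure gives zero. -/
noncomputable def stepC (s : Step) (c : ℕ) : ℕ :=
  cond (inRange (stepV s c) 24) (Nat.succ (packF (stepV s c) 24)) 0

section

attribute [local irreducible] blkPos packF inRange

theorem chk_none {c d : ℕ} (hd : ∀ k < 24, papp d k = zV c k) (hlt : ∀ k < 24, zV c k < 32) :
    stepChk none c d = true := by
  simp only [stepChk, List.all_eq_true, List.mem_range]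
  intro k hk
  have e := hlt k hk
  rw [hd k hk, blk_ok k hk]
  simp only [zV, forceN_eq, pappF_eq, bitF_eq, fieldSum, Nat.add_eq, show ∀ a b, Nat.div a b = a / b from fun _ _ => rfl,
    Nat.sub_eq, List.length_cons,
    List.length_nil, Nat.add_zero, Nat.zero_add] at e ⊢
  generalize (papp c (blkPos k 0) + (papp c (blkPos k 1) + (papp c (blkPos k 2) + papp c (blkPos k 3)))) / 2 = h at e ⊢
  generalize papp c k = f at e ⊢
  cases hn : (147496 : ℕ).testBit k
  · simp only [hn, cond_false] at e ⊢
    cases hb : Nat.ble h (f + 32)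
    · simp [hb] at e
    · simp only [hb, cond_true] at e ⊢
      have := Nat.le_of_ble_eq_true hb
      rw [Nat.sub_add_cancel this]
      simp
  · simp only [hn, cond_true] at e ⊢
    cases hb : Nat.ble f h
    · simp [hb] at e
    · simp only [hb, cond_true] at e ⊢
      have := Nat.le_of_ble_eq_true hb
      rw [Nat.sub_add_cancel this]
      simp

theorem chk_some {g m c d : ℕ} (hd : ∀ k < 24, papp d k = mV g m c k) (hlt : ∀ k < 24, mV g m c k < 32) :
    stepChk (some (g, m)) c d = true := by
  simp only [stepChk, List.all_eq_true, List.mem_range, Bool.and_eq_true]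
  intro k hk
  have e := hlt k hk
  rw [hd k hk]
  simp only [mV, pappF_eq, bitF_eq, Nat.sub_eq] at e ⊢
  cases hg : Nat.blt (papp g k) 24 with
  | false => rw [hg] at e; simp at e
  | true =>
    refine ⟨rfl, ?_⟩
    rw [hg, cond_true] at e
    have hf : papp c (papp g k) < 32 := Nat.mod_lt _ (by norm_num)
    cases hm : m.testBit k <;> simp only [hm, cond_true, cond_false, Nat.beq_eq] at e ⊢
    omega

theorem papp_packF {f : ℕ → ℕ} {n : ℕ} (hlt : inRange f n = true) : ∀ k < n, papp (packF f n) k = f k := by
  have hr := inRange_spec _ _ hlt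
  intro k hk
  have hcongr : ∀ m ≤ n, pack f m = pack (fun i => min (f i) 31) m := by
    intro m hm
    induction m with
    | zero => rfl
    | succ m ih =>
      show pack _ m + f m * _ = pack _ m + min (f m) 31 * _
      rw [ih (by omega), Nat.min_eq_left (Nat.le_of_lt_succ (hr m (by omega)))]
  rw [packF_eq, hcongr n le_rfl, (pack_spec _ (fun i => by omega) n).2 k hk,
    Nat.min_eq_left (Nat.le_of_lt_succ (hr k hk))]

theorem stepC_spec {s : Step} {c d : ℕ} (h : stepC s c = d + 1) : stepChk s c d = true := by
  rw [stepC] at h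
  cases hr : inRange (stepV s c) 24 with
  | false => rw [hr] at h; exact absurd h (by simp)
  | true =>
    rw [hr, cond_true] at h
    obtain rfl : packF (stepV s c) 24 = d := Nat.succ_injective h
    have h1 := papp_packF hr
    have h2 := inRange_spec _ _ hr
    obtain _ | ⟨g, m⟩ := s
    · exact chk_none h1 h2
    · exact chk_some h1 h2

end

/-- Running a word on a code, checking each step; failure gives zero. -/
noncomputable def runC : List Step → ℕ → ℕ
  | [], c => c + 1
  | s :: w, c => forceN (stepC s c) fun d => cond (Nat.beq d 0) 0 (runC w (Nat.pred d))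

theorem runC_spec : ∀ (w : List Step) (c r : ℕ), runC w c = r + 1 → runW w (vecN c) = vecN r
  | [], c, r, h => by rw [show c = r from Nat.succ_injective h]; rfl
  | s :: w, c, r, h => by
    simp only [runC, forceN_eq] at h
    cases hs : stepC s c with
    | zero => rw [hs] at h; exact absurd h (by simp)
    | succ d =>
      rw [hs] at h
      have h' : runC w d = r + 1 := h
      rw [runW, stepChk_eq (stepC_spec hs)]
      exact runC_spec w d r h'

/-- The code of the short vector. -/
def vecUCode : ℕ := (List.range 24).foldr (fun k acc => acc * 32 + cond (k == 0 || k == 23) 20 16) 0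

/-- The code of an axis vector. -/
def axCode (j : ℕ) : ℕ := (List.range 24).foldr (fun k acc => acc * 32 + cond (k == j) 24 16) 0

theorem vecU_code : ∀ i, vecN vecUCode i = Spor.vecU i := by decide +kernel

theorem ax_code : ∀ j i : GolayPt, vecN (axCode (idx j)) i = if i = j then 8 else 0 := by decide +kernel

theorem ax_vec (j : GolayPt) : vecN (axCode (idx j)) = (ax j : GolayPt → ℤ) := by
  funext i
  rw [ax_code, ax_coe, Pi.single_apply]

/-- A word of an element of the stabiliser. -/
noncomputable def okW (w : List Step) : Bool := wordOK w && Nat.beq (runC w vecUCode) (vecUCode + 1)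

theorem exists_el {w : List Step} (h : okW w = true) :
    ∃ g : ↥Spor.Co2, ∀ v : ↥leechLattice,
      (((g : Equiv.Perm ↥leechLattice) v : ↥leechLattice) : GolayPt → ℤ) = runW w v := by
  simp only [okW, Bool.and_eq_true] at h
  obtain ⟨g, hg⟩ := exists_word_aut h.1
  refine ⟨⟨(g : Equiv.Perm ↥leechLattice), g.2, ?_⟩, hg⟩
  refine Subtype.ext (?_ : ((g • Spor.leechU : ↥leechLattice) : GolayPt → ℤ) = Spor.vecU)
  rw [hg, show ((Spor.leechU : ↥leechLattice) : GolayPt → ℤ) = vecN vecUCode from (funext vecU_code).symm,
    runC_spec w _ _ (Nat.eq_of_beq_eq_true h.2)]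
  exact funext vecU_code

open scoped Classical in
/-- The element of a word. -/
noncomputable def el (w : List Step) : ↥Spor.Co2 :=
  if h : okW w = true then (exists_el h).choose else 1

theorem el_spec {w : List Step} (h : okW w = true) (v : ↥leechLattice) :
    ((coTwoIncl (el w) • v : ↥leechLattice) : GolayPt → ℤ) = runW w v := by
  rw [el, dif_pos h]
  exact (exists_el h).choose_spec v

theorem incl_injective : Function.Injective coTwoIncl := Subgroup.inclusion_injective _

theorem runW_append : ∀ (a b : List Step) (x : GolayPt → ℤ), runW (a ++ b) x = runW b (runW a x)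
  | [], b, x => rfl
  | s :: a, b, x => runW_append a b _

theorem ext_of_runW {g h : ↥Spor.Co2}
    (H : ∀ v : ↥leechLattice, ((coTwoIncl g • v : ↥leechLattice) : GolayPt → ℤ) =
      ((coTwoIncl h • v : ↥leechLattice) : GolayPt → ℤ)) : g = h :=
  incl_injective (aut_ext H)

theorem el_nil : el [] = 1 := by
  have h : okW [] = true := by
    simp [okW, wordOK, runC]
  exact ext_of_runW fun v => by rw [el_spec h, map_one, one_smul]; rfl

theorem eight_eq (v : ↥leechLattice) : (8 : ℤ) • v = ∑ i : GolayPt, ((v : GolayPt → ℤ) i) • ax i := by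
  refine Subtype.ext (funext fun j => ?_)
  rw [AddSubgroup.coe_zsmul, Pi.smul_apply, AddSubgroup.val_finset_sum, Finset.sum_apply, Finset.sum_eq_single j]
  · simp [ax_coe, smul_eq_mul, mul_comm]
  · intro i _ hij
    simp [ax_coe, Pi.single_apply, Ne.symm hij]
  · simp

theorem ext_of_ax {g h : ↥Co0} (H : ∀ j : GolayPt, g • ax j = h • ax j) : g = h := by
  refine aut_ext fun v => ?_
  have e : ∀ k : ↥Co0, (8 : ℤ) • (k • v) = ∑ i : GolayPt, ((v : GolayPt → ℤ) i) • (k • ax i) := fun k => by
    calc (8 : ℤ) • (k • v) = autHom k ((8 : ℤ) • v) := (map_zsmul (autHom k) 8 v).symm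
      _ = _ := by
        rw [eight_eq, map_sum]
        exact Finset.sum_congr rfl fun i _ => map_zsmul (autHom k) _ _
  have h8 : (8 : ℤ) • (g • v) = (8 : ℤ) • (h • v) := by simp only [e, H]
  funext i
  have := congrFun (congrArg (fun x : ↥leechLattice => (x : GolayPt → ℤ)) h8) i
  simp only [AddSubgroup.coe_zsmul, Pi.smul_apply, smul_eq_mul] at this
  omega

/-- Two words move the axes alike. -/
noncomputable def sameW (v w : List Step) : Bool :=
  (List.range 24).all fun j =>
    forceN (runC v (axCode j)) fun r => Nat.blt 0 r && Nat.beq r (runC w (axCode j))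

theorem el_eq_of_sameW {v w : List Step} (hv : okW v = true) (hw : okW w = true) (h : sameW v w = true) :
    el v = el w := by
  simp only [sameW, Bool.and_eq_true, List.all_eq_true, List.mem_range, forceN_eq, Nat.blt_eq] at h
  refine incl_injective (ext_of_ax fun j => Subtype.ext ?_)
  obtain ⟨hpos, he⟩ := h (idx j) (idx_lt j)
  obtain ⟨r, hr⟩ := Nat.exists_eq_succ_of_ne_zero hpos.ne'
  rw [el_spec hv, el_spec hw, ← ax_vec, runC_spec v _ r hr,
    runC_spec w _ r ((Nat.eq_of_beq_eq_true he).symm.trans hr)]

/-- The word of a product of numbered elements. -/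
def cw (gw : List (List Step)) : List ℕ → List Step
  | [] => []
  | a :: l => cw gw l ++ gw.getD a []

/-- The numbered elements. -/
noncomputable def gE (gw : List (List Step)) (k : ℕ) : ↥Spor.Co2 := el (gw.getD k [])

theorem el_append {v w : List Step} (hv : okW v = true) (hw : okW w = true) :
    okW (v ++ w) = true ∧ el (v ++ w) = el w * el v := by
  have hok : okW (v ++ w) = true := by
    simp only [okW, Bool.and_eq_true] at hv hw ⊢
    refine ⟨?_, ?_⟩
    · have := hv.1
      clear hv
      induction v with
      | nil => exact hw.1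
      | cons s v ih =>
        match s with
        | none => exact ih this
        | some (c, m) =>
          simp only [wordOK, List.cons_append, Bool.and_eq_true] at this ⊢
          exact ⟨this.1, ih this.2⟩
    · have key : ∀ (a : List Step) (c r : ℕ), runC a c = r + 1 → runC (a ++ w) c = runC w r := by
        intro a
        induction a with
        | nil => intro c r h; rw [show c = r from Nat.succ_injective h]; rfl
        | cons s a ih =>
          intro c r h
          simp only [runC, List.cons_append, forceN_eq] at h ⊢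
          cases hs : stepC s c with
          | zero => rw [hs] at h; exact absurd h (by simp)
          | succ d =>
            rw [hs] at h
            exact ih d r h
      rw [key v _ _ (Nat.eq_of_beq_eq_true hv.2)]
      exact hw.2
  refine ⟨hok, ext_of_runW fun x => ?_⟩
  rw [el_spec hok, runW_append, map_mul, mul_smul, el_spec hw, el_spec hv]

/-- All listed words are words of elements. -/
noncomputable def okWs (gw : List (List Step)) : Bool := gw.all okW

theorem okW_getD {gw : List (List Step)} (h : okWs gw = true) (k : ℕ) : okW (gw.getD k []) = true := by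
  rcases Nat.lt_or_ge k gw.length with hk | hk
  · rw [List.getD_eq_getElem _ _ hk]
    exact List.all_eq_true.mp h _ (List.getElem_mem hk)
  · rw [List.getD_eq_default _ _ hk]
    simp [okW, wordOK, runC]

theorem el_cw {gw : List (List Step)} (h : okWs gw = true) (l : List ℕ) :
    okW (cw gw l) = true ∧ el (cw gw l) = StemSylow.Collect.ev (gE gw) l := by
  induction l with
  | nil => exact ⟨by simp [cw, okW, wordOK, runC], el_nil⟩
  | cons a l ih =>
    obtain ⟨h1, h2⟩ := el_append ih.1 (okW_getD h a)
    refine ⟨h1, ?_⟩
    show el (cw gw l ++ gw.getD a []) = _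
    rw [h2, ih.2, StemSylow.Collect.ev_cons]
    rfl

/-- The check of the facts of a certificate. -/
noncomputable def okFacts (gw tw : List (List Step)) (facts : List (ℕ × List ℕ × List ℕ)) : Bool :=
  okWs gw && okWs tw && (tw.getD 0 []).isEmpty &&
    facts.all fun f => sameW (cw gw f.2.1 ++ tw.getD f.1 []) (tw.getD f.1 [] ++ cw gw f.2.2)

theorem facts_of_ok {gw tw : List (List Step)} {facts : List (ℕ × List ℕ × List ℕ)}
    (h : okFacts gw tw facts = true) :
    gE tw 0 = 1 ∧ ∀ m < facts.length, gE tw (facts.getD m (0, [], [])).1 *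
      StemSylow.Collect.ev (gE gw) (facts.getD m (0, [], [])).2.1 * (gE tw (facts.getD m (0, [], [])).1)⁻¹ =
        StemSylow.Collect.ev (gE gw) (facts.getD m (0, [], [])).2.2 := by
  simp only [okFacts, Bool.and_eq_true] at h
  obtain ⟨⟨⟨hg, ht⟩, hone⟩, hall⟩ := h
  refine ⟨by rw [gE, List.isEmpty_iff.mp hone, el_nil], fun m hm => ?_⟩
  have e := el_eq_of_sameW (el_append (el_cw hg _).1 (okW_getD ht _)).1
    (el_append (okW_getD ht _) (el_cw hg _).1).1 (List.all_eq_true.mp hall _ (List.getElem_mem hm))
  rw [List.getD_eq_getElem _ _ hm, mul_inv_eq_iff_eq_mul, ← (el_cw hg _).2, ← (el_cw hg _).2]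
  show el _ * _ = _ * el _
  rw [← (el_append (el_cw hg _).1 (okW_getD ht _)).2, ← (el_append (okW_getD ht _) (el_cw hg _).1).2]
  exact e

end CfsgLib.CoTwoMult

namespace CfsgLib.CoTwoMult

open Cfsg CfsgLeech

/-- The order of the second Conway group. -/
theorem card_spor_co2 : Nat.card ↥Spor.Co2 = 42305421312000 := by
  rw [← card_co2 (v := Spor.leechU) leechU_norm32]
  refine Nat.card_congr
    { toFun := fun g => ⟨coTwoIncl g, coTwoIncl_fix g⟩
      invFun := fun g => ⟨(g.1 : Equiv.Perm ↥leechLattice), g.1.2, g.2⟩
      left_inv := fun g => rfl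
      right_inv := fun g => rfl }

instance instFiniteCoTwo : Finite ↥Spor.Co2 :=
  Nat.finite_of_card_ne_zero (by rw [card_spor_co2]; norm_num)

end CfsgLib.CoTwoMult
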