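/-
Lower bounds for subgroups given by words: images of axes along a chain.
-/
import Cfsg.Agent.Lib.CoTwoMult.Words

set_option autoImplicit false

namespace CfsgLib.CoTwoMult

open Cfsg CfsgGolay CfsgLeech CfsgLeechOrb
open scoped Pointwise

attribute [local irreducible] codeL octadL dodecadL slpCodes

/-- The word fixes an axis. -/
noncomputable def fixAx (w : List Step) (j : ℕ) : Bool := Nat.beq (runC w (axCode j)) (axCode j + 1)

/-- The images of the axis increase along the list. -/
noncomputable def levelOK (gw : List (List Step)) (n : ℕ) (prev : List ℕ) (j : ℕ) : ℕ → List (List ℕ) → Bool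
  | _, [] => true
  | lo, l :: L => forceN (runC (cw gw l) (axCode j)) fun r =>
      l.all (fun a => Nat.blt a n) && prev.all (fixAx (cw gw l)) && Nat.blt lo r && Nat.ble r (2 ^ 120) &&
        levelOK gw n prev j r L

/-- All levels of a chain are right. -/
noncomputable def chainOK (gw : List (List Step)) (n : ℕ) : List ℕ → List (ℕ × List (List ℕ)) → Bool
  | _, [] => true
  | prev, (j, L) :: rest =>
      Nat.blt j 24 && levelOK gw n prev j 0 L && chainOK gw n (prev ++ [j]) rest

/-- The size of a chain. -/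
def chainSize : List (ℕ × List (List ℕ)) → ℕ
  | [] => 1
  | (_, L) :: rest => L.length * chainSize rest

theorem levelOK_spec {gw : List (List Step)} {n : ℕ} {prev : List ℕ} {j : ℕ} :
    ∀ {lo : ℕ} {L : List (List ℕ)}, levelOK gw n prev j lo L = true →
      (∀ l ∈ L, (∀ a ∈ l, a < n) ∧ (∀ i ∈ prev, fixAx (cw gw l) i = true) ∧
        lo < runC (cw gw l) (axCode j) ∧ runC (cw gw l) (axCode j) ≤ 2 ^ 120) ∧
      L.Pairwise fun l l' => runC (cw gw l) (axCode j) < runC (cw gw l') (axCode j) := by
  intro lo L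
  induction L generalizing lo with
  | nil => intro _; simp
  | cons l L ih =>
    intro h
    simp only [levelOK, forceN_eq, Bool.and_eq_true, List.all_eq_true, Nat.blt_eq, Nat.ble_eq] at h
    obtain ⟨⟨⟨⟨h1, h2⟩, h3⟩, h4⟩, h5⟩ := h
    obtain ⟨i1, i2⟩ := ih h5
    refine ⟨fun x hx => ?_, List.pairwise_cons.mpr ⟨fun x hx => (i1 x hx).2.2.1, i2⟩⟩
    rcases List.mem_cons.mp hx with rfl | hx
    · exact ⟨h1, h2, h3, h4⟩
    · exact ⟨(i1 x hx).1, (i1 x hx).2.1, h3.trans (i1 x hx).2.2.1, (i1 x hx).2.2.2⟩

/-- An element moves an axis to a code. -/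
theorem el_ax {w : List Step} (hw : okW w = true) {j r : ℕ} (hj : j < 24) (hr : runC w (axCode j) = r + 1) :
    ((coTwoIncl (el w) • ax (pt j) : ↥leechLattice) : GolayPt → ℤ) = vecN r := by
  rw [el_spec hw, ← ax_vec, idx_pt hj, runC_spec w _ r hr]

/-- The members of a subgroup fixing some axes. -/
noncomputable def fixPart (H : Subgroup ↥Spor.Co2) (prev : List ℕ) : Subgroup ↥Spor.Co2 where
  carrier := {g | g ∈ H ∧ ∀ i ∈ prev, coTwoIncl g • ax (pt i) = ax (pt i)}
  one_mem' := ⟨one_mem H, fun i _ => by rw [map_one, one_smul]⟩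
  mul_mem' := fun {a b} ha hb => ⟨mul_mem ha.1 hb.1, fun i hi => by rw [map_mul, mul_smul, hb.2 i hi, ha.2 i hi]⟩
  inv_mem' := fun {a} ha => ⟨inv_mem ha.1, fun i hi => by rw [map_inv, inv_smul_eq_iff, ha.2 i hi]⟩

theorem card_ge_chain {gw : List (List Step)} (hgw : okWs gw = true) {n : ℕ} :
    ∀ {prev : List ℕ} {ch : List (ℕ × List (List ℕ))}, (∀ i ∈ prev, i < 24) → chainOK gw n prev ch = true →
      chainSize ch ≤ Nat.card (fixPart (Subgroup.closure (gE gw '' {k | k < n})) prev) := by
  intro prev ch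
  induction ch generalizing prev with
  | nil => intro _ _; exact Nat.card_pos
  | cons p rest ih =>
    obtain ⟨j, L⟩ := p
    intro hprev h
    simp only [chainOK, Bool.and_eq_true, Nat.blt_eq] at h
    obtain ⟨⟨hj, hL⟩, hrest⟩ := h
    obtain ⟨hspec, hpair⟩ := levelOK_spec hL
    have hlen := ih (fun i hi => by
      rcases List.mem_append.mp hi with hi | hi
      · exact hprev i hi
      · exact (List.mem_singleton.mp hi) ▸ hj) hrest
    set H := Subgroup.closure (gE gw '' {k | k < n}) with hH
    have hmem : ∀ l ∈ L, el (cw gw l) ∈ fixPart H prev := fun l hl => by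
      refine ⟨?_, fun i hi => Subtype.ext ?_⟩
      · rw [(el_cw hgw l).2]
        refine Subgroup.list_prod_mem _ fun x hx => ?_
        obtain ⟨a, ha, rfl⟩ := List.mem_map.mp hx
        exact Subgroup.subset_closure ⟨a, (hspec l hl).1 a ha, rfl⟩
      · rw [el_ax (el_cw hgw l).1 (hprev i hi) (Nat.eq_of_beq_eq_true ((hspec l hl).2.1 i hi)), ← ax_vec,
          idx_pt (hprev i hi)]
    have hsub : fixPart H (prev ++ [j]) ≤ fixPart H prev := fun g hg =>
      ⟨hg.1, fun i hi => hg.2 i (List.mem_append_left _ hi)⟩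
    let f : Fin L.length × fixPart H (prev ++ [j]) → fixPart H prev := fun x =>
      ⟨el (cw gw (L.get x.1)) * x.2, mul_mem (hmem _ (L.get_mem x.1)) (hsub x.2.2)⟩
    have hf : Function.Injective f := by
      rintro ⟨a, x⟩ ⟨b, y⟩ hab
      have e : el (cw gw (L.get a)) * (x : ↥Spor.Co2) = el (cw gw (L.get b)) * y := congrArg Subtype.val hab
      have hmove : coTwoIncl (el (cw gw (L.get a))) • ax (pt j) = coTwoIncl (el (cw gw (L.get b))) • ax (pt j) := by
        have := congrArg (fun g => coTwoIncl g • ax (pt j)) e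
        simpa only [map_mul, mul_smul, x.2.2 j (by simp), y.2.2 j (by simp)] using this
      obtain ⟨-, -, ha0, ha1⟩ := hspec _ (L.get_mem a)
      obtain ⟨-, -, hb0, hb1⟩ := hspec _ (L.get_mem b)
      obtain ⟨ra, hra⟩ := Nat.exists_eq_succ_of_ne_zero (Nat.ne_zero_of_lt ha0)
      obtain ⟨rb, hrb⟩ := Nat.exists_eq_succ_of_ne_zero (Nat.ne_zero_of_lt hb0)
      have hr : ra = rb := vecN_inj (by omega) (by omega) (by
        rw [← el_ax (el_cw hgw _).1 hj hra, ← el_ax (el_cw hgw _).1 hj hrb, hmove])
      have hab' : a = b := by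
        rcases lt_trichotomy a b with h' | h' | h'
        · exact absurd (hra.trans (hr ▸ hrb.symm)) (List.pairwise_iff_get.mp hpair a b h').ne
        · exact h'
        · exact absurd (hrb.trans (hr ▸ hra.symm)) (List.pairwise_iff_get.mp hpair b a h').ne
      subst hab'
      exact Prod.ext rfl (Subtype.ext (mul_left_cancel e))
    have := Nat.card_le_card_of_injective f hf
    rw [Nat.card_prod, Nat.card_fin] at this
    exact le_trans (Nat.mul_le_mul_left _ hlen) this

theorem card_closure_ge {gw : List (List Step)} (hgw : okWs gw = true) {n : ℕ} {ch : List (ℕ × List (List ℕ))}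
    (h : chainOK gw n [] ch = true) :
    chainSize ch ≤ Nat.card (Subgroup.closure (gE gw '' {k | k < n})) := by
  refine (card_ge_chain hgw (by simp) h).trans ?_
  exact Nat.card_mono (Set.toFinite _) fun g hg => hg.1

end CfsgLib.CoTwoMult
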