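/-
Data of the three-part of the multiplier of Co2: a collector on a Sylow subgroup.
-/
import Cfsg.Agent.Lib.StemSylow.CollectP
import Cfsg.Agent.Lib.Leech.Words

set_option autoImplicit false
set_option maxRecDepth 100000

namespace CfsgLib.CoTwoMult

open CfsgLeech CfsgLib.StemSylow

/-- The collector for 3. -/
def certThree : CollectP.Cert where
  n := 6
  p := 3
  fuel := 600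
  facts := [(0, [0, 0, 0], []),
    (0, [1, 0], [0, 1, 2, 3]),
    (0, [2, 0], [0, 2, 5]),
    (0, [3, 0], [0, 3]),
    (0, [4, 0], [0, 4, 5, 5]),
    (0, [5, 0], [0, 5]),
    (0, [1, 1, 1], []),
    (0, [2, 1], [1, 2, 4, 5, 5]),
    (0, [3, 1], [1, 3, 4, 4, 5, 5]),
    (0, [4, 1], [1, 4]),
    (0, [5, 1], [1, 5]),
    (0, [2, 2, 2], []),
    (0, [3, 2], [2, 3, 5]),
    (0, [4, 2], [2, 4, 5]),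
    (0, [5, 2], [2, 5]),
    (0, [3, 3, 3], []),
    (0, [4, 3], [3, 4, 5, 5]),
    (0, [5, 3], [3, 5]),
    (0, [4, 4, 4], []),
    (0, [5, 4], [4, 5]),
    (0, [5, 5, 5], []),
    (1, [0], [0, 0, 3, 5, 5]),
    (1, [1], [1, 1]),
    (1, [2], [0, 0, 2, 3, 4, 4, 5, 5]),
    (1, [3], [0, 5, 5]),
    (1, [4], [2, 2, 3, 3]),
    (1, [5], [5])]
  eqs := [.ins [2] [1, 0] [],
    .ins [3] [1, 0] [],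
    .ins [3] [2, 0] [],
    .ins [3] [2, 1] [],
    .ins [4] [1, 0] [],
    .ins [4] [2, 0] [],
    .ins [4] [2, 1] [],
    .ins [4] [3, 1] [],
    .ins [1, 1] [1, 0] [],
    .ins [2, 2] [2, 1] [],
    .conj [21, 21, 21] [],
    .conj [22, 22, 22] [],
    .conj [23, 21] [21, 23, 26],
    .conj [23, 22] [22, 23, 25, 26, 26],
    .conj [23, 23, 23] [],
    .conj [24, 21] [21, 24],
    .conj [24, 22] [22, 24, 25, 25, 26, 26],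
    .conj [24, 23] [23, 24, 26],
    .conj [25, 22] [22, 25],
    .conj [25, 23] [23, 25, 26]]
  s := [[0, 0, 0, 0, 0, 0, 0, 0, 0, 0, 0, 0, 0, 0, 0, 0, 0, 0, 0, 0, 0, 0, 0, 0, 0, 0, 0],
    [0, 0, 0, 0, 0, 0, 0, 0, 0, 0, 0, 0, 0, 0, 0, 0, 0, 0, 0, 0, 0, 0, 0, 0, 0, 0, 0],
    [0, 1, 0, 0, 0, 0, 0, 0, 0, 0, 0, 0, 0, 0, 0, 0, 0, 0, 0, 0, 0, 0, 0, 0, 0, 0, 0],
    [0, 0, 0, 0, 0, 0, 0, 0, 0, 0, 0, 0, 0, 0, 0, 0, 0, 0, 0, 0, 0, 0, 0, 0, 0, 0, 0],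
    [0, 0, 1, 0, 0, 0, 0, 1, 0, 0, 0, 0, 0, 0, 0, 0, 0, 0, 0, 0, 0, 0, 0, 0, 0, 0, 0],
    [0, 0, 1, 0, 0, 0, 0, 0, 0, 0, 0, 0, 0, 0, 0, 0, 0, 0, 0, 0, 0, 0, 0, 0, 0, 0, 0]]
  combos := [[(3, 1), (4, 1), (5, 2), (6, 2), (7, 1), (9, 2), (10, 2), (14, 1)],
    [],
    [],
    [(2, 1), (15, 1)],
    [(0, 1), (1, 2), (2, 2), (3, 1), (5, 1), (12, 1), (17, 1), (19, 1)],
    [(0, 1), (1, 1), (2, 2), (3, 2), (4, 2), (5, 1)],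
    [(11, 1)],
    [],
    [(0, 2), (1, 2), (2, 2), (3, 1), (5, 1), (7, 2), (8, 1), (12, 1), (13, 2), (15, 2), (16, 2), (17, 2), (18, 2), (19, 1)],
    [(0, 2), (1, 2), (2, 1), (3, 2), (4, 2), (6, 1), (8, 1), (9, 2), (13, 2), (16, 2), (18, 1), (19, 1)],
    [(6, 2), (7, 1)],
    [(0, 2), (1, 2), (2, 1), (3, 1), (4, 2), (5, 2), (7, 2), (8, 2), (9, 2), (10, 1), (14, 1)],
    [(1, 1), (5, 1), (6, 1), (7, 1), (12, 2), (17, 2), (19, 2)],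
    [(2, 2), (3, 1), (6, 2), (12, 1), (15, 2), (17, 2)],
    [(0, 2), (1, 2), (2, 1), (3, 1), (4, 1), (6, 1), (7, 1)],
    [(0, 2), (1, 2), (3, 2), (4, 2), (5, 2), (6, 1), (9, 1), (10, 2), (14, 2)],
    [(2, 2), (5, 2), (6, 1), (7, 1), (12, 2), (15, 1), (17, 1)],
    [(0, 2), (1, 2), (2, 2), (3, 1), (4, 1), (5, 2)],
    [(0, 1), (1, 1), (2, 2), (3, 2), (4, 2), (6, 1), (7, 1), (9, 2)],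
    [(6, 2), (7, 2)],
    [(0, 2), (1, 2), (5, 1), (7, 1)]]

/-- The generators of the Sylow subgroup. -/
def gwThree : List (List Step) := [[some (13900384793971493674518899900622423, 7882666), some (233263458838420022273266528422185288, 1121336), none, some (338405061158992369547624715500145778, 4906134), some (3503118437665299014883526132218199, 6200364), none, some (94013275931608915650263486375676449, 9991001), some (775416881388972416762241146920416643, 2847322), none, some (525931361628190703443556928556610859, 10557585), some (57467926868564776605068498331806227, 10067537), none, some (552177997707739951214798374741459556, 2814095)],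
  [some (959584194357052323783382260420886592, 1265762), some (585534991258445742145366006545504628, 4836771), none, some (279114362130307708627995847533269351, 678687), some (774038484821387954676072649816726543, 10838590), none, some (963671087667688041074180265564621504, 8126628), some (775416881388972416762241146920416643, 2847322), none, some (525931361628190703443556928556610859, 10557585), some (888665317377585562349975672415421797, 3629894), none, some (387114593311248417223190029322508687, 9365216)],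
  [some (975710172252789180963545360122501664, 5628190), some (262600214832990925113331980257464677, 2070896), none, some (192420502533186569631876421509293805, 13386478), some (262600214832990925113331980257464677, 2070896), none, some (192420502533186569631876421509293805, 13386478), some (977017824566453654564873509227926112, 6455896), some (375553709698063153508639982072644015, 3581808), none, some (612293400084600995774119304489472387, 10032023)],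
  [some (8448234449229489952020571491045719, 7903248), some (667504779926906170460642574885063851, 2960242), none, some (392958584387373107440760913893896271, 13617794), some (585534991258445742145366006545504628, 4836771), none, some (279114362130307708627995847533269351, 678687), some (980296401874870590685784902306839904, 7903248), some (774038484821387954676072649816726543, 10838590), none, some (963671087667688041074180265564621504, 8126628)],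
  [some (978848981908958479659743571688330624, 702724), some (262600214832990925113331980257464677, 2070896), none, some (192420502533186569631876421509293805, 13386478), some (762299947963288067797180344674081795, 3707487), none, some (27723652998607732751444190442281239, 3070044), some (941797694735343146733739709925697966, 876376), none, some (715588110547104546328739552881676997, 11160733), some (774038484821387954676072649816726543, 10838590), none, some (963671087667688041074180265564621504, 8126628), some (57467926868564776605068498331806227, 10067537), none, some (552177997707739951214798374741459556, 2814095)],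
  [some (4193829484943530925993711290601047, 7909678), some (667504779926906170460642574885063851, 2960242), none, some (392958584387373107440760913893896271, 13617794), some (233263458838420022273266528422185288, 1121336), none, some (338405061158992369547624715500145778, 4906134), some (888665317377585562349975672415421797, 3629894), none, some (387114593311248417223190029322508687, 9365216), some (977017824566453654564873509227926112, 6455896)]]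

/-- The fusing elements. -/
def twThree : List (List Step) := [[],
  [some (974250748448134378126002051856676224, 5117534), some (667504779926906170460642574885063851, 2960242), none, some (392958584387373107440760913893896271, 13617794), some (941797694735343146733739709925697966, 876376), none, some (715588110547104546328739552881676997, 11160733), some (965175328859835996890633991568267968, 3396300), some (965175328859835996890633991568267968, 3396300)]]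

/-- The chain of the Sylow subgroup. -/
def chainThree : List (ℕ × List (List ℕ)) := [(0, [[], [1, 4, 4, 5, 5], [1, 5, 5], [0, 3, 3, 4, 5], [0, 2, 2], [0, 2, 3, 4, 4], [1, 2, 2, 3, 3], [2, 2, 3, 4, 4], [0, 0, 2, 2, 3, 3, 4], [0, 0, 2, 5, 5], [0, 0, 3, 4, 4, 5, 5], [1, 2, 2, 3, 3, 4, 4, 5], [2, 3, 3, 4, 5], [0, 3, 3, 4, 4], [0, 0, 2, 2, 3, 5], [2, 2, 4, 4, 5], [0, 2, 2, 3, 4, 4], [0, 2, 3, 3, 4, 4, 5], [0, 2, 2, 4], [2, 3, 5, 5], [1, 1, 2, 3, 4], [0, 2, 3, 3, 4, 5], [0, 0, 2, 3, 3, 4, 5], [0, 2, 3, 4, 5], [2, 3, 4, 5, 5], [0, 2, 2, 4, 4], [0, 0, 2, 3], [3, 3, 4, 4, 5], [0, 4, 5], [4, 5, 5], [0, 0, 2, 2, 4, 4, 5, 5], [0, 0, 2, 2, 4, 5, 5], [0, 0, 2, 3, 3, 5], [0, 0, 3, 3, 4, 5], [2, 3, 4, 4], [1, 1, 2, 3, 5], [2, 2], [0, 0, 2, 2, 3, 4, 5], [0, 2, 4, 5, 5],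 [0, 2, 4, 4, 5], [4, 4], [0, 0, 2, 2, 3, 3], [2, 4, 4], [1, 1, 5], [0, 4, 4], [0, 0, 2, 3, 4], [0, 2, 3, 3, 4, 5, 5], [2, 3], [0, 0, 2, 2, 3, 4, 4, 5, 5], [0, 0, 3, 3, 4, 4], [2, 2, 4, 5, 5], [0, 2, 2, 3], [2, 3, 3, 4, 4], [0, 3, 4, 5], [2, 2, 3, 3, 5], [3, 4, 4], [2, 2, 3], [0, 0, 2, 2, 3, 3, 4, 4], [2, 3, 3, 5, 5], [0, 0, 2, 3, 3, 4, 4], [0, 0, 3, 4], [2, 2, 3, 4], [2, 4], [0, 2, 3, 3, 5, 5], [0, 0, 2, 2, 3, 4], [1, 1, 4, 5], [0, 2, 2, 3, 3, 4, 4, 5], [0, 0, 2, 4, 5], [0, 0, 2, 3, 3, 4], [3, 4, 5], [0, 2, 4, 4, 5, 5], [0, 2, 5], [4], [2, 2, 3, 3, 4, 5], [0, 0, 4, 5], [4, 4, 5], [0, 0, 2, 2, 4], [0, 0, 2, 2], [0, 2, 3, 3, 5], [0, 2, 3, 5, 5], [0, 0, 2, 3, 4, 4], [0, 0, 4, 4, 5], [3, 3, 4, 5], [2], [2, 2, 3, 3, 4, 4, 5, 5], [0, 2, 2, 3, 4, 5], [0, 2, 2, 3,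 3, 4, 5, 5], [0, 0, 3, 4, 5, 5], [0, 0, 2, 2, 3, 5, 5], [0, 3, 3, 4, 4, 5], [0, 3, 4, 4, 5], [0, 2, 2, 3, 3], [2, 2, 3, 3, 5, 5], [0, 0, 2, 4, 4], [0, 0, 2, 2, 3, 4, 4], [0, 2, 3, 3, 4, 4, 5, 5], [0, 2, 2, 3, 4, 4, 5], [0, 0, 3, 3, 5, 5], [0, 0, 5], [0, 3, 3], [0, 5, 5], [3, 5, 5], [3, 3, 5], [0, 0, 3], [0, 3, 5], [0, 1, 2, 2, 3, 4, 4, 5], [0, 1, 2, 2, 4, 5], [0, 0, 1, 2], [1, 2, 2, 3, 5], [0, 0, 1, 2, 2, 4], [0, 1, 2, 2, 4, 4, 5], [0, 1, 4], [0, 1, 3, 3, 4, 5, 5], [0, 1, 2, 3, 3, 4, 4, 5, 5], [0, 1, 4, 4, 5, 5], [1, 2, 5], [0, 0, 1, 2, 3, 5, 5], [1, 2, 3, 3, 4, 4, 5, 5], [0, 0, 1, 2, 4], [0, 0, 1, 2, 2, 3, 3, 5, 5], [1, 3, 5], [0, 0, 1, 3, 4], [0, 0, 1, 2, 2, 5], [0, 0, 1, 2, 2, 3, 3, 4, 5, 5], [1, 2, 2, 3, 4, 4, 5], [0, 1, 2, 2, 3, 4, 5, 5], [0, 1, 2, 3,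 4, 4, 5, 5], [0, 0, 1, 3], [0, 0, 1, 3, 3, 5, 5], [1, 3, 4, 4, 5, 5], [0, 1, 3, 3, 4, 4, 5, 5], [0, 1, 2, 3, 3, 4], [0, 0, 1, 3, 3, 4, 5], [0, 0, 1, 2, 2, 3, 4, 5, 5], [0, 1, 3, 3, 4, 4, 5], [0, 1, 1, 2, 2, 5, 5], [0, 1, 1, 2, 2, 3, 4, 4, 5, 5], [0, 1, 1, 2, 3, 3], [1, 2, 3, 3, 5], [0, 0, 1, 1, 2, 4, 5], [1, 1, 3, 4, 5, 5], [0, 3, 4, 4], [0, 0, 2, 4, 4, 5, 5], [0, 1, 1, 2, 2, 4, 4, 5, 5], [1, 2, 3, 3, 4], [0, 0, 1, 1, 2, 2, 5], [0, 0, 1, 1, 2, 3, 3, 4, 4], [0, 0, 1, 2, 2, 3, 3, 4, 4, 5, 5], [0, 1, 2, 2, 3, 3, 4, 4], [0, 1, 1, 2, 2, 3, 3, 4, 4, 5, 5], [0, 0, 1, 2, 4, 5, 5], [0, 0, 2, 3, 4, 5, 5], [0, 1, 1, 2, 4, 5], [0, 1, 1, 2, 4, 4], [1, 1, 4, 4, 5], [0, 0, 1, 1, 2, 2, 3, 3, 4, 5], [1, 1, 2, 2, 3, 4, 5, 5], [1, 1, 2, 4, 5, 5], [0, 1, 1, 2, 3, 4, 4, 5], [0,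 0, 1, 1, 2, 2, 4, 4, 5], [0, 0, 1, 1, 3, 3], [1, 1, 2, 2, 3, 3, 4, 4, 5, 5], [0, 0, 1, 1, 2, 2, 3], [0, 1, 3, 3, 5], [0, 0, 3, 5], [0, 2, 2, 3, 4], [1, 1, 3], [0, 1, 1, 2, 2, 3, 5, 5], [1, 2, 2, 5, 5], [0, 0, 2, 3, 4, 4, 5, 5], [2, 4, 5], [3, 3, 4, 5, 5], [3, 3], [0, 2, 2, 3, 3, 4, 5], [0, 0, 1, 1, 2, 2, 3, 3, 4, 4, 5], [0, 0, 2, 2, 5, 5], [1, 1, 2, 2, 4], [0, 3, 5, 5], [2, 2, 3, 3, 4, 4, 5], [0, 1, 1, 2, 3, 3, 4, 4, 5], [1, 1, 2, 2, 3, 3, 5, 5], [0, 2, 3, 4], [0, 0, 1, 1, 3, 3, 4, 5, 5], [1, 1, 2, 2, 3, 5, 5], [0, 0, 1, 1, 2, 3, 3, 5, 5], [2, 5], [0, 1, 2, 3, 3, 5, 5], [1, 2, 2, 3, 3, 4, 5, 5], [0, 0, 1, 2, 3, 3, 5, 5], [0, 0, 1, 2, 3, 3, 4, 4, 5, 5], [1, 2, 3, 4, 5], [0, 1, 2, 3, 3, 4, 5, 5], [0, 1, 2, 4], [0, 1, 2, 4, 4, 5, 5], [0, 0, 1, 2, 3, 4, 4, 5,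 5], [0, 0, 1, 4, 4], [0, 2], [1, 3, 3, 5, 5], [0, 1, 2, 2, 3, 3, 4, 5], [0, 0, 1, 2, 2], [0, 1, 1, 3, 3, 4], [0, 1, 1, 2, 3, 3, 4], [0, 1, 1, 2, 2, 3, 3, 4], [1, 1, 3, 3, 4], [0, 0, 1, 2, 2, 3], [0, 1, 2, 2, 3, 5], [0, 4, 4, 5], [2, 3, 3, 5], [0, 0, 1], [0, 0, 2, 4, 5, 5], [0, 3], [0, 1, 3, 5, 5], [1, 2, 3, 5, 5], [0, 0, 4, 4], [0, 0, 2, 2, 3, 3, 4, 4, 5, 5], [3], [3, 4], [2, 2, 3, 4, 5], [0, 0, 1, 1, 2, 3, 4, 4, 5], [0, 0, 1, 1, 4, 4, 5, 5], [0, 2, 2, 3, 3, 5, 5], [0], [2, 2, 3, 5, 5], [0, 1, 2, 2, 5], [1, 1, 2, 2, 3, 3, 4], [0, 1, 5], [0, 0, 1, 2, 3, 4, 5, 5], [0, 0, 1, 3, 5], [1, 3, 3, 4, 4, 5, 5], [1, 2, 2, 3, 4, 5], [1, 2, 4, 5], [0, 1, 2, 3, 3, 4, 4], [0, 1, 2, 2, 3, 3, 5, 5], [1, 2, 3, 4, 4, 5], [0, 0, 1, 2, 4, 4, 5], [0, 0, 1, 2, 2, 3, 4, 4, 5], [0,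 0, 1, 1, 2, 2, 4, 4, 5, 5], [0, 0], [0, 1, 1, 2, 2, 4, 5, 5], [0, 1, 1, 2, 2, 3, 3, 5], [0, 0, 1, 1, 2, 3, 5], [1, 1, 2, 2, 3, 4, 4, 5, 5], [0, 1, 2, 3, 4], [0, 3, 3, 5, 5], [2, 2, 3, 3, 4, 5, 5], [0, 0, 1, 3, 3, 4, 4], [0, 0, 1, 2, 4, 4, 5, 5], [1, 1, 2, 2, 3, 3, 4, 4], [1, 3, 4], [0, 0, 1, 2, 3, 3, 4, 5], [0, 0, 1, 2, 3, 3, 5], [0, 0, 1, 3, 4, 4, 5], [1, 2, 4, 4, 5], [0, 0, 3, 3, 5], [0, 1, 3, 4, 4, 5, 5], [2, 3, 4, 5], [0, 1, 1, 4, 5, 5], [1, 1, 2, 3, 4, 4, 5, 5], [0, 0, 1, 1, 3, 5], [0, 0, 1, 1, 3, 4, 4, 5], [0, 0, 1, 1, 2, 2, 4, 5, 5], [0, 0, 1, 1, 3, 3, 4], [1, 2, 2, 4, 5], [0, 0, 2, 3, 5, 5], [0, 0, 1, 1, 2, 2, 3, 3, 5], [1, 1, 2, 2, 4, 4, 5, 5], [1, 1, 2, 5, 5], [0, 1, 1, 2, 2, 3, 4], [0, 1, 1, 4, 4, 5], [0, 1, 2, 3, 3], [3, 4, 4, 5], [3, 5], [0, 2,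 4], [0, 0, 2, 3, 3, 5, 5], [2, 4, 4, 5], [0, 2, 2, 3, 3, 4, 4], [0, 3, 4, 5, 5], [1, 2, 3, 4, 5, 5], [0, 1, 1, 2, 3, 3, 5], [2, 2, 5], [2, 3, 4, 4, 5], [0, 0, 3, 5, 5], [0, 0, 2, 2, 4, 4], [0, 0, 3, 3, 4], [1, 2, 2, 4, 4], [0, 1, 2, 4, 4], [0, 1, 2, 5, 5], [1, 4, 5, 5], [0, 5], [0, 2, 3], [0, 0, 1, 1, 2, 2, 3, 4, 4, 5], [0, 0, 1, 1, 3, 3, 4, 4, 5, 5], [0, 0, 2, 3, 3, 4, 4, 5, 5], [0, 3, 3, 5], [0, 0, 3, 3, 4, 4, 5], [1, 1, 2, 2, 5], [0, 1, 1, 3, 3, 4, 4], [3, 3, 5, 5], [3, 3, 4, 4], [0, 2, 2, 4, 5, 5], [0, 1, 1, 3], [1, 1, 2, 3, 3], [0, 4], [0, 0, 2, 2, 3, 3, 5], [0, 2, 2, 4, 4, 5], [0, 0, 3, 3], [0, 0, 5, 5], [0, 0, 1, 1, 2, 2, 3, 4, 5, 5], [0, 0, 4, 5, 5], [0, 2, 2, 3, 5], [0, 1, 1, 2, 2, 3, 4, 4], [1, 3, 3, 4, 5, 5], [0, 0, 1, 2, 2, 4, 4, 5], [0, 0, 1,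 4], [0, 0, 1, 2, 5], [0, 1, 2, 3, 5], [2, 2, 4], [0, 1, 3, 4, 5, 5], [0, 1, 2, 2, 3, 4, 4, 5, 5], [2, 2, 4, 4, 5, 5], [2, 3, 3, 4, 4, 5], [0, 1, 1, 3, 3, 4, 4, 5, 5], [2, 3, 3, 4], [2, 3, 3, 4, 4, 5, 5], [0, 0, 4], [0, 0, 1, 1, 2, 3, 4, 5], [0, 1, 1, 2, 3, 4, 5, 5], [0, 0, 1, 1, 3, 3, 4, 4, 5], [0, 0, 1, 1, 2, 4, 4], [1, 1, 3, 4, 4, 5], [2, 2, 4, 5], [0, 2, 3, 5], [0, 2, 2, 3, 3, 5], [0, 0, 2, 5], [0, 3, 3, 4], [0, 1, 1, 3, 3, 5, 5], [1, 1, 2, 3, 3, 4, 5, 5], [1, 1, 2, 3, 3, 4, 4, 5], [0, 0, 4, 4, 5, 5], [0, 2, 2, 3, 5, 5], [0, 0, 1, 1, 2, 3, 3, 4], [0, 0, 2, 2, 3, 3, 4, 5, 5], [0, 0, 1, 1, 4, 5, 5], [2, 2, 3, 3, 4], [0, 0, 2, 3, 3, 4, 4, 5], [0, 2, 2, 3, 3, 4, 4, 5, 5], [0, 0, 3, 4, 4, 5], [2, 5, 5], [0, 1, 1, 2, 3, 3, 4, 4], [1, 1, 3, 3, 4, 4], [0, 0, 1,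 1, 2, 5, 5], [0, 0, 3, 3, 4, 4, 5, 5], [0, 0, 2, 4, 4, 5], [0, 3, 4], [0, 0, 2, 2, 3, 3, 5, 5], [3, 4, 5, 5], [3, 4, 4, 5, 5], [0, 0, 1, 1, 5, 5], [0, 0, 1, 1, 3, 3, 5], [0, 0, 1, 1, 3, 4, 4, 5, 5], [0, 0, 1, 1, 3, 4, 5, 5], [0, 2, 2, 4, 4, 5, 5], [1, 1, 3, 3], [1, 1, 2, 4, 4, 5, 5], [0, 1, 1, 3, 4], [2, 2, 4, 4], [0, 1, 1, 2, 3], [0, 0, 1, 1, 2, 3, 3, 4, 4, 5, 5], [2, 2, 3, 4, 4, 5], [0, 4, 5, 5], [0, 2, 2, 3, 3, 4], [2, 2, 3, 3, 4, 4], [0, 0, 2, 4], [0, 2, 3, 4, 4, 5], [0, 0, 3, 4, 4], [2, 2, 3, 5], [2, 4, 4, 5, 5], [3, 3, 4, 4, 5, 5], [3, 3, 4], [2, 2, 3, 4, 5, 5], [0, 2, 2, 5], [2, 2, 5, 5], [0, 2, 2, 3, 4, 5, 5], [2, 3, 4, 4, 5, 5], [0, 0, 3, 3, 4, 5, 5], [0, 2, 2, 5, 5], [0, 0, 2, 2, 5], [0, 0, 2, 2, 4, 4, 5], [0, 2, 5, 5], [0, 2, 4, 5], [0, 0, 2, 2,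 3, 3, 4, 4, 5], [0, 0, 2, 3, 4, 4, 5], [0, 1, 1, 3, 4, 4], [0, 1, 1, 2, 4, 4, 5], [0, 1, 1, 2], [0, 2, 3, 4, 4, 5, 5], [2, 3, 3], [0, 0, 2, 3, 3], [2, 2, 3, 4, 4, 5, 5], [0, 2, 2, 4, 5], [0, 0, 2, 3, 5], [2, 3, 4], [0, 3, 4, 4, 5, 5], [0, 1, 1, 2, 3, 3, 4, 5], [2, 3, 3, 4, 5, 5], [0, 1, 1], [0, 0, 2, 2, 3, 3, 4, 5], [0, 4, 4, 5, 5], [2, 4, 5, 5], [0, 0, 2], [0, 3, 3, 4, 5, 5], [0, 2, 3, 4, 5, 5], [0, 0, 2, 3, 4, 5], [0, 0, 1, 2, 3, 4, 5], [1, 2, 4, 4, 5, 5], [0, 1, 2, 3, 4, 5, 5], [1, 2, 3, 3, 5, 5], [1, 1, 2], [1, 3, 4, 4, 5], [0, 1, 3, 4, 5], [0, 1, 2, 2, 3], [1, 2, 3, 5], [0, 0, 1, 5, 5], [0, 1, 1, 2, 5, 5], [1, 5], [0, 0, 1, 2, 2, 3, 5, 5], [0, 1, 3, 5], [0, 0, 1, 2, 3, 5], [1, 3, 4, 5, 5], [0, 0, 1, 3, 4, 4, 5, 5], [0, 0, 1, 4, 5, 5], [1, 2, 2, 4, 5,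 5], [1, 2, 2, 4, 4, 5, 5], [1, 2, 2, 3, 4, 4, 5, 5], [0, 1, 2, 3], [0, 1, 2, 2, 3, 3], [1, 4, 5], [0, 0, 1, 2, 2, 4, 4], [0, 0, 1, 2, 3, 3, 4, 5, 5], [0, 1, 3, 4, 4], [1, 2, 3, 4, 4, 5, 5], [0, 1], [0, 1, 2, 3, 5, 5], [0, 0, 1, 3, 4, 5, 5], [0, 1, 2, 2, 3, 4, 5], [0, 0, 1, 3, 3, 4, 4, 5, 5], [0, 0, 1, 1, 5], [0, 1, 1, 5, 5], [0, 1, 1, 2, 3, 5], [1, 3, 3, 4, 4], [1, 3, 3, 4, 5], [1, 2, 2, 3, 4], [0, 0, 1, 2, 2, 3, 4, 4, 5, 5], [0, 1, 2, 2, 4, 4], [1, 2, 2, 3, 3, 4, 4], [0, 0, 1, 1, 2, 5], [0, 1, 1, 3, 4, 5, 5], [0, 1, 4, 5, 5], [0, 0, 1, 1, 2, 3], [1, 1, 3, 3, 5], [1, 1, 3, 3, 4, 4, 5, 5], [0, 1, 1, 4, 5], [0, 0, 1, 3, 3, 5], [0, 1, 2, 2, 5, 5], [0, 0, 1, 1, 2, 4, 4, 5], [0, 0, 1, 2, 3, 4, 4, 5], [0, 1, 3, 4], [0, 0, 1, 1, 2, 3, 4], [1, 2, 5, 5], [1, 2, 4,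 5, 5], [1, 3, 3, 4], [1, 3, 3, 5], [0, 0, 1, 2, 2, 4, 4, 5, 5], [0, 1, 2], [0, 1, 2, 4, 5, 5], [0, 0, 1, 4, 5], [0, 0, 1, 1, 2, 3, 3, 4, 5], [0, 1, 1, 3, 3], [1, 1, 2, 4, 4], [0, 1, 1, 3, 4, 4, 5], [0, 1, 2, 2, 3, 3, 4], [0, 0, 1, 2, 3, 3, 4, 4, 5], [0, 0, 1, 1, 3, 4, 5], [0, 1, 1, 2, 3, 4, 5], [0, 0, 1, 4, 4, 5], [1, 2, 2, 3, 3, 4], [0, 0, 1, 1, 4], [0, 1, 2, 5], [0, 1, 2, 2, 3, 3, 4, 4, 5], [0, 0, 1, 2, 2, 3, 3, 4, 5], [1, 2, 4], [0, 0, 1, 3, 3, 4, 5, 5], [1, 4], [0, 0, 1, 4, 4, 5, 5], [0, 0, 1, 2, 2, 3, 3, 4, 4, 5], [1, 2, 2, 4, 4, 5], [1, 2, 2, 5], [0, 1, 3, 3], [1, 2, 2, 3, 3, 4, 5], [0, 1, 2, 2, 3, 3, 4, 5, 5], [1, 4, 4], [0, 0, 1, 2, 2, 4, 5], [0, 0, 1, 2, 2, 3, 4, 4], [0, 0, 1, 3, 3, 4, 4, 5], [0, 1, 3, 4, 4, 5], [1, 2, 2], [1, 2, 2, 4], [0, 1, 2,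 4, 5], [0, 1, 4, 4], [0, 0, 1, 2, 3, 3, 4, 4], [0, 0, 1, 2, 3, 3, 4], [0, 1, 3, 3, 5, 5], [1, 2, 2, 3, 4, 5, 5], [1, 3, 3], [1, 3, 3, 4, 4, 5], [0, 1, 2, 3, 4, 4, 5], [0, 1, 2, 2], [1, 2, 3, 3, 4, 5, 5], [1, 1, 2, 3, 3, 4], [1, 1, 2, 3, 3, 4, 4], [1, 2, 3, 3, 4, 5], [1, 2, 3, 4, 4], [0, 0, 1, 3, 4, 4], [1, 3, 4, 5], [0, 1, 2, 2, 3, 3, 5], [0, 1, 5, 5], [1, 2, 2, 3], [1, 1, 3, 4, 4, 5, 5], [0, 1, 2, 2, 4, 5, 5], [0, 0, 1, 2, 2, 3, 4], [0, 0, 1, 2, 2, 3, 3, 4, 4], [0, 0, 1, 2, 3, 4, 4], [1, 2, 3, 3, 4, 4], [0, 0, 1, 2, 2, 3, 4, 5], [0, 1, 3], [0, 0, 1, 2, 2, 3, 3], [1, 3, 5, 5], [0, 1, 3, 3, 4], [1, 2, 2, 3, 3, 5], [1, 1, 3, 4], [0, 1, 2, 2, 3, 3, 4, 4, 5, 5], [1, 2, 3], [0, 0, 1, 2, 2, 3, 5], [0, 0, 1, 5], [0, 1, 2, 2, 3, 5, 5], [1, 1, 2, 2], [0, 0, 1, 1, 2,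 2, 3, 4, 4], [0, 0, 1, 1, 2, 3, 4, 4], [0, 1, 1, 3, 3, 4, 5, 5], [0, 1, 1, 2, 2, 3, 3, 4, 5, 5], [1, 3], [1, 1, 2, 2, 3, 3, 5], [1, 1, 2, 2, 4, 5, 5], [0, 0, 1, 2, 2, 3, 3, 5], [0, 0, 1, 1, 2, 2, 3, 4], [0, 1, 1, 3, 4, 4, 5, 5], [0, 1, 1, 2, 2, 3, 5], [1, 1, 2, 3], [0, 0, 1, 1, 4, 4, 5], [0, 0, 1, 1, 2, 2, 3, 3, 4, 4], [0, 1, 2, 3, 4, 4], [0, 1, 1, 2, 3, 4, 4, 5, 5], [2, 2, 3, 3], [0, 0, 1, 3, 3, 4], [1, 1, 2, 2, 3, 3, 4, 5], [0, 0, 1, 1, 2, 3, 3], [0, 1, 3, 3, 4, 5], [1, 1, 2, 2, 4, 4, 5], [0, 1, 1, 4, 4, 5, 5], [0, 0, 1, 1, 3, 4], [0, 0, 1, 1, 3], [0, 1, 1, 2, 2, 3, 4, 5, 5], [1, 2, 3, 3, 4, 4, 5], [0, 1, 1, 3, 5, 5], [0, 0, 2, 2, 3, 4, 4, 5], [0, 0, 1, 1, 2, 2, 3, 3], [1, 1, 2, 3, 3, 4, 4, 5, 5], [1, 1, 2, 3, 3, 5, 5], [1, 1, 2, 2, 3], [1, 1, 2, 4, 4, 5],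 [5, 5], [1, 1, 4], [0, 0, 1, 1, 2, 2, 4, 5], [0, 1, 1, 2, 2, 4, 5], [1, 1, 2, 3, 4, 4, 5], [1, 1, 3, 5, 5], [0, 1, 1, 2, 2, 3, 3], [0, 1, 1, 5], [1, 1, 2, 2, 3, 4, 4, 5], [0, 0, 3, 4, 5], [0, 0, 1, 1, 2, 2, 3, 4, 5], [0, 2, 3, 3], [0, 1, 1, 2, 2, 4, 4], [1, 2, 3, 3], [0, 0, 1, 1, 4, 5], [1, 1, 2, 3, 3, 5], [1, 1, 2, 3, 3, 4, 5], [0, 1, 1, 3, 5], [0, 0, 1, 1, 2, 4], [0, 1, 1, 2, 2, 5], [0, 0, 1, 2, 2, 3, 3, 4], [0, 1, 4, 4, 5], [1, 1, 2, 2, 3, 4, 4], [1, 1, 2, 4], [1, 1, 3, 3, 4, 5], [1, 1, 3, 3, 5, 5], [0, 1, 1, 4, 4], [0, 2, 2, 3, 4, 4, 5, 5], [1, 1, 3, 4, 4], [0, 1, 1, 2, 2, 3, 4, 5], [1, 1, 2, 3, 4, 4], [0, 1, 1, 3, 4, 5], [0, 0, 1, 1, 2, 2, 4], [0, 0, 1, 1, 2, 2, 3, 3, 5, 5], [0, 1, 1, 2, 2, 3, 3, 4, 4, 5], [1, 1, 4, 4], [0, 0, 1, 1, 2, 2, 3, 5, 5], [1,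 1, 2, 2, 4, 4], [0, 1, 1, 2, 3, 5, 5], [0, 1, 1, 2, 2, 3, 3, 5, 5], [0, 0, 1, 1, 2, 3, 3, 4, 5, 5], [0, 2, 3, 3, 4, 4], [0, 0, 1, 1, 3, 5, 5], [1, 1, 3, 3, 4, 4, 5], [1, 1, 3, 3, 4, 5, 5], [1, 1, 2, 2, 3, 4, 5], [0, 1, 1, 2, 2, 4], [0, 0, 1, 1, 2], [0, 0, 1, 1, 2, 2], [0, 1, 1, 2, 5], [0, 1, 1, 2, 4], [0, 0, 1, 1], [0, 0, 1, 1, 2, 2, 3, 3, 4, 5, 5], [4, 4, 5, 5], [1, 1, 2, 3, 4, 5], [0, 0, 2, 2, 4, 5], [1, 1, 2, 2, 3, 3, 4, 5, 5], [0, 0, 1, 1, 4, 4], [0, 0, 1, 3, 3], [0, 1, 1, 3, 3, 5], [0, 0, 1, 1, 2, 2, 3, 3, 4], [1, 2, 2, 3, 5, 5], [1, 2, 4, 4], [0, 1, 2, 2, 3, 4], [0, 2, 4, 4], [0, 0, 1, 1, 2, 2, 3, 5], [0, 1, 1, 2, 4, 5, 5], [0, 1, 2, 3, 4, 5], [1, 1, 2, 2, 3, 4], [0, 1, 1, 2, 3, 4], [0, 0, 1, 3, 4, 5], [1, 2], [1, 2, 2, 3, 4, 4], [4, 5], [1, 1, 4, 4,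 5, 5], [0, 0, 1, 1, 2, 2, 5, 5], [0, 0, 1, 2, 2, 4, 5, 5], [0, 0, 1, 2, 3, 4], [0, 1, 1, 2, 2, 3, 3, 4, 4], [0, 0, 1, 1, 2, 3, 3, 5], [1, 1, 2, 4, 5], [1, 1, 2, 2, 3, 5], [0, 0, 2, 2, 3, 4, 5, 5], [0, 0, 2, 3, 3, 4, 5, 5], [0, 0, 1, 1, 2, 3, 4, 5, 5], [0, 1, 2, 2, 4], [0, 0, 1, 1, 2, 4, 4, 5, 5], [0, 0, 1, 1, 2, 2, 3, 4, 4, 5, 5], [1, 3, 4, 4], [1, 1, 3, 5], [1, 1, 2, 2, 5, 5], [0, 1, 4, 5], [0, 1, 2, 2, 4, 4, 5, 5], [0, 0, 1, 2, 3], [0, 0, 2, 2, 3], [0, 1, 1, 2, 2, 3, 3, 4, 5], [1, 1, 5, 5], [0, 0, 1, 1, 2, 4, 5, 5], [0, 1, 1, 2, 2, 4, 4, 5], [0, 0, 1, 1, 2, 2, 3, 3, 4, 4, 5, 5], [0, 0, 1, 1, 2, 3, 4, 4, 5, 5], [0, 3, 3, 4, 4, 5, 5], [1, 1, 2, 2, 4, 5], [0, 1, 1, 3, 3, 4, 5], [1, 1, 2, 2, 3, 3], [0, 1, 1, 2, 2, 3], [0, 1, 1, 2, 3, 4, 4], [5], [0, 2, 3, 3,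 4], [0, 1, 1, 2, 2], [2, 3, 5], [1, 1, 3, 4, 5], [0, 1, 1, 4], [0, 0, 1, 1, 2, 3, 5, 5], [1, 1, 2, 5], [0, 0, 1, 2, 4, 4], [0, 1, 2, 4, 4, 5], [1, 2, 3, 4], [0, 0, 1, 2, 3, 3], [0, 1, 2, 3, 3, 5], [1, 1], [0, 0, 1, 1, 3, 4, 4], [0, 1, 1, 2, 3, 3, 4, 5, 5], [1, 2, 2, 3, 3, 5, 5], [0, 0, 1, 3, 5, 5], [0, 0, 1, 2, 5, 5], [0, 1, 2, 3, 3, 4, 5], [0, 1, 2, 2, 3, 4, 4], [1, 1, 4, 5, 5], [0, 1, 1, 2, 4, 4, 5, 5], [0, 0, 1, 1, 3, 3, 4, 4], [1, 1, 2, 3, 4, 5, 5], [1, 2, 2, 3, 3, 4, 4, 5, 5], [0, 1, 2, 3, 3, 4, 4, 5], [0, 0, 1, 2, 2, 5, 5], [1, 4, 4, 5], [0, 0, 1, 1, 2, 3, 3, 4, 4, 5], [0, 0, 1, 1, 3, 3, 5, 5], [0, 1, 1, 2, 3, 3, 4, 4, 5, 5], [0, 1, 1, 3, 3, 4, 4, 5], [1, 1, 2, 3, 5, 5], [0, 0, 1, 2, 4, 5], [0, 1, 3, 3, 4, 4], [1], [0, 0, 1, 1, 3, 3, 4, 5], [0, 1, 1,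 2, 2, 3, 4, 4, 5], [1, 1, 2, 2, 3, 3, 4, 4, 5], [0, 0, 1, 1, 2, 2, 4, 4], [0, 1, 1, 2, 3, 3, 5, 5]])]

end CfsgLib.CoTwoMult
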