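/-
Kernel checks of the collector for 3 of Co2.
-/
import Cfsg.Agent.Lib.CoTwoMult.Chain
import Cfsg.Agent.Lib.CoTwoMult.DataThree

set_option autoImplicit false
set_option maxRecDepth 1000000

namespace CfsgLib.CoTwoMult

theorem certThree_ok : certThree.check = true := by decide +kernel

theorem factsThree_ok : okFacts gwThree twThree certThree.facts = true := by decide +kernel

theorem chainThree_ok : okWs gwThree = true ∧ chainOK gwThree 6 [] chainThree = true := by decide +kernel

theorem chainThree_size : chainSize chainThree = 729 ∧ certThree.n = 6 := by decide +kernel

end CfsgLib.CoTwoMult
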