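/-
Kernel checks of the collector for 2 of Co2.
-/
import Cfsg.Agent.Lib.CoTwoMult.Chain
import Cfsg.Agent.Lib.CoTwoMult.DataTwo

set_option autoImplicit false
set_option maxRecDepth 1000000

namespace CfsgLib.CoTwoMult

theorem certTwo_ok : certTwo.check = true := by decide +kernel

theorem factsTwo_ok : okFacts gwTwo twTwo certTwo.facts = true := by decide +kernel

theorem chainTwo_ok : okWs gwTwo = true ∧ chainOK gwTwo 18 [] chainTwo = true := by decide +kernel

theorem chainTwo_size : chainSize chainTwo = 262144 ∧ certTwo.n = 18 := by decide +kernel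

end CfsgLib.CoTwoMult
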