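/-
The Schur multiplier of Co2 is trivial.
-/
import Cfsg.Agent.Lib.CoTwoMult.ChecksTwo
import Cfsg.Agent.Lib.CoTwoMult.ChecksThree
import Cfsg.Agent.Lib.Leech.SporTransfer
import Cfsg.Agent.Lib.McLMult.Main
import Cfsg.Agent.Lib.PermChain.Schur
import Cfsg.Agent.Lib.SchurSmall

set_option autoImplicit false
set_option maxRecDepth 30000

namespace CfsgLib.CoTwoMult

open Subgroup Cfsg CfsgLib.StemSylow
open scoped commutatorElement

attribute [local irreducible] certTwo certThree gwTwo twTwo gwThree twThree chainTwo chainThree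

theorem two_torsion {Γ : Type} [Group Γ] [Finite Γ] {σ : Γ →* ↥Spor.Co2} (hσ : Cfsg.IsStemExtension σ) {z : Γ}
    (hz : z ∈ σ.ker) (hzp : z ^ 2 = 1) : z = 1 := by
  obtain ⟨ht, hf⟩ := facts_of_ok factsTwo_ok
  have hle : 2 ^ certTwo.n ≤ Nat.card (Subgroup.closure (gE gwTwo '' {k | k < certTwo.n})) := by
    rw [chainTwo_size.2, show (2 : ℕ) ^ 18 = 262144 by norm_num, ← chainTwo_size.1]
    exact card_closure_ge chainTwo_ok.1 chainTwo_ok.2
  refine Collect.eq_one_of_sq_surjective (fun y hy => Collect.sq_surjective hσ (fun Δ _ _ τ hτ hexp => ?_) hy) 1 z hz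
    (by rwa [pow_one])
  rw [eq_bot_iff]
  intro x hx
  have hupper := Collect.card_lift (C := certTwo) (Gl := gE gwTwo) (Tl := gE twTwo) (E := fun _ => (1 : ↥Spor.Co2))
    (fun _ _ => Commute.one_left _) (fun _ => one_mul _) ht (fun m => by
      show _ = _ * (1 : ↥Spor.Co2)
      rw [mul_one]
      by_cases hm : m < certTwo.facts.length
      · exact hf m hm
      · rw [show certTwo.fact m = (0, [], []) from List.getD_eq_default _ _ (not_lt.mp hm)]
        simp [Collect.ev_nil, ht]) certTwo_ok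
  have hone : ∀ f : ℕ, Collect.zz (fun _ => (1 : ↥Spor.Co2)) certTwo.facts.length f = 1 := by
    intro f
    induction certTwo.facts.length with
    | zero => rfl
    | succ k ih => simp [Collect.zz, ih]
  simp only [hone, mul_one] at hupper
  have hindex := Collect.pow_index_eq_one hτ hexp certTwo certTwo_ok (gE gwTwo) (gE twTwo) ht hf hle hx
  have hmul := Subgroup.card_mul_index (Subgroup.closure (gE gwTwo '' {k | k < certTwo.n}))
  rw [le_antisymm hupper hle, card_spor_co2, chainTwo_size.2] at hmul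
  rw [show (Subgroup.closure (gE gwTwo '' {k | k < certTwo.n})).index = 161382375 by
    rw [chainTwo_size.2]; norm_num at hmul; omega] at hindex
  have := pow_gcd_eq_one.mpr ⟨show x ^ 2 = 1 by rw [pow_two]; exact hexp x hx, hindex⟩
  rwa [show Nat.gcd 2 161382375 = 1 by norm_num, pow_one] at this

theorem three_torsion {Γ : Type} [Group Γ] [Finite Γ] {σ : Γ →* ↥Spor.Co2} (hσ : Cfsg.IsStemExtension σ) {z : Γ}
    (hz : z ∈ σ.ker) (hzp : z ^ 3 = 1) : z = 1 := by
  obtain ⟨ht, hf⟩ := facts_of_ok factsThree_ok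
  have hp : certThree.p = 3 := by with_unfolding_all rfl
  have hn : certThree.p ^ certThree.n = 729 := by rw [hp, chainThree_size.2]; norm_num
  have hle : certThree.p ^ certThree.n ≤ Nat.card (Subgroup.closure (gE gwThree '' {k | k < certThree.n})) := by
    rw [hn, chainThree_size.2, ← chainThree_size.1]
    exact card_closure_ge chainThree_ok.1 chainThree_ok.2
  refine CollectP.no_torsion hσ (show Nat.Prime 3 by norm_num) (fun Δ _ _ τ hτ hexp => ?_) hz hzp
  rw [eq_bot_iff]
  intro x hx
  have hupper := CollectP.card_lift certThree (Gl := gE gwThree) (Tl := gE twThree) (E := fun _ => (1 : ↥Spor.Co2))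
    (fun _ _ => Commute.one_left _) (fun _ => one_pow _) ht (fun m => by
      show _ = _ * (1 : ↥Spor.Co2)
      rw [mul_one]
      by_cases hm : m < certThree.facts.length
      · exact hf m hm
      · rw [show certThree.fact m = (0, [], []) from List.getD_eq_default _ _ (not_lt.mp hm)]
        simp [Collect.ev_nil, ht]) certThree_ok
  have hone : ∀ f : ℕ → ℤ, CollectMod.zz (fun _ => (1 : ↥Spor.Co2)) certThree.facts.length f = 1 := by
    intro f
    induction certThree.facts.length with
    | zero => rfl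
    | succ k ih => simp [CollectMod.zz, ih]
  simp only [hone, mul_one] at hupper
  have hindex := CollectP.pow_index_eq_one hτ certThree (hp.symm ▸ hexp) certThree_ok (gE gwThree) (gE twThree) ht hf
    hle hx
  have hmul := Subgroup.card_mul_index (Subgroup.closure (gE gwThree '' {k | k < certThree.n}))
  rw [le_antisymm hupper hle, card_spor_co2, hn] at hmul
  rw [show (Subgroup.closure (gE gwThree '' {k | k < certThree.n})).index = 58032128000 by omega] at hindex
  have := pow_gcd_eq_one.mpr ⟨hexp x hx, hindex⟩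
  rwa [show Nat.gcd 3 58032128000 = 1 by norm_num, pow_one] at this

/-- The McLaughlin group inside the second Conway group. -/
noncomputable def mclSub : Subgroup ↥Spor.Co2 := Spor.McL.subgroupOf Spor.Co2

theorem mcl_le : Spor.McL ≤ Spor.Co2 := fun _ hg => ⟨hg.1.1, hg.2⟩

theorem mclSub_facts : IsSimpleGroup ↥mclSub ∧ mclSub.index = 47104 := by
  obtain ⟨e1⟩ := CfsgLeech.spor_mcl_equiv
  let e : ↥mclSub ≃* _ := (Subgroup.subgroupOfEquivOfLe mcl_le).trans e1
  refine ⟨CfsgGolay.isSimple_congr e.symm CfsgLeech.mcl_simple, ?_⟩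
  have h := mclSub.card_mul_index
  rw [(Nat.card_congr e.toEquiv).trans CfsgLeech.card_mcl, card_spor_co2] at h
  omega

/-- Restriction to the McLaughlin group. -/
theorem other_torsion {Γ : Type} [Group Γ] [Finite Γ] {σ : Γ →* ↥Spor.Co2} (hσ : Cfsg.IsStemExtension σ) {z : Γ}
    (hz : z ∈ σ.ker) : z ^ (47104 * 3) = 1 := by
  obtain ⟨hsimple, hidx⟩ := mclSub_facts
  obtain ⟨e1⟩ := CfsgLeech.spor_mcl_equiv
  let e : ↥mclSub ≃* ↥Spor.McL := Subgroup.subgroupOfEquivOfLe mcl_le
  set H := mclSub.comap σ with hH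
  obtain ⟨hmem, hcomm⟩ := CfsgLib.StSL.pow_index_mem hσ mclSub hz
  rw [hidx] at hmem
  have hcomm' : (⟨z ^ 47104, hmem⟩ : H) ∈ commutator H := by
    convert hcomm using 2
    rw [hidx]
  let τ₀ : H →* ↥mclSub := σ.subgroupComap mclSub
  have hτs : Function.Surjective τ₀ := fun y => by
    obtain ⟨g, hg⟩ := hσ.1 y
    exact ⟨⟨g, show σ g ∈ mclSub from hg ▸ y.2⟩, Subtype.ext hg⟩
  have hperf : commutator ↥mclSub = ⊤ := by
    refine (Subgroup.Normal.eq_bot_or_eq_top (inferInstance : (commutator ↥mclSub).Normal)).resolve_left fun h => ?_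
    have hc : ∀ a b : ↥mclSub, a * b = b * a := fun a b => commutatorElement_eq_one_iff_mul_comm.mp
      (Subgroup.mem_bot.mp (h ▸ Subgroup.commutator_mem_commutator (Subgroup.mem_top a) (Subgroup.mem_top b)))
    letI : CommGroup ↥mclSub := { (inferInstance : Group ↥mclSub) with mul_comm := hc }
    have h1 : (Nat.card ↥mclSub).Prime := IsSimpleGroup.prime_card
    rw [(Nat.card_congr (e.trans e1).toEquiv).trans CfsgLeech.card_mcl] at h1
    norm_num at h1
  have hkc : τ₀.ker ≤ Subgroup.center H := fun x hx => Subgroup.mem_center_iff.mpr fun g => Subtype.ext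
    (Subgroup.mem_center_iff.mp (hσ.2.1 (show σ x = 1 from congrArg Subtype.val (MonoidHom.mem_ker.mp hx))) g)
  -- the derived subgroup still covers
  have htop : (commutator H).map τ₀ = ⊤ := by
    rw [commutator_def, Subgroup.map_commutator, Subgroup.map_top_of_surjective τ₀ hτs]
    exact hperf
  have hsplit : ∀ a : H, ∃ d ∈ commutator H, ∃ c ∈ Subgroup.center H, a = d * c := fun a => by
    obtain ⟨d, hd, he⟩ := htop.ge (Subgroup.mem_top (τ₀ a))
    exact ⟨d, hd, d⁻¹ * a, hkc (by rw [MonoidHom.mem_ker, map_mul, map_inv, he, inv_mul_cancel]), by group⟩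
  have hD : commutator H ≤ ⁅commutator H, commutator H⁆ := by
    rw [commutator_def, Subgroup.commutator_le]
    intro a _ b _
    obtain ⟨d, hd, c, hc, rfl⟩ := hsplit a
    obtain ⟨d', hd', c', hc', rfl⟩ := hsplit b
    rw [CfsgLib.StSL.comm_congr (π := QuotientGroup.mk' (Subgroup.center H))
      (by rw [QuotientGroup.ker_mk'])
      (show _ = QuotientGroup.mk' (Subgroup.center H) d by
        rw [map_mul, show QuotientGroup.mk' (Subgroup.center H) c = 1 from (QuotientGroup.eq_one_iff _).mpr hc, mul_one])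
      (show _ = QuotientGroup.mk' (Subgroup.center H) d' by
        rw [map_mul, show QuotientGroup.mk' (Subgroup.center H) c' = 1 from (QuotientGroup.eq_one_iff _).mpr hc', mul_one])]
    exact Subgroup.commutator_mem_commutator hd hd'
  let τ : ↥(commutator H) →* ↥Spor.McL := e.toMonoidHom.comp (τ₀.comp (commutator H).subtype)
  have hstem : Cfsg.IsStemExtension τ := by
    refine ⟨fun y => ?_, fun x hx => ?_, fun x _ => ?_⟩
    · obtain ⟨d, hd, he⟩ := htop.ge (Subgroup.mem_top (e.symm y))
      exact ⟨⟨d, hd⟩, by show e (τ₀ d) = y; rw [he, MulEquiv.apply_symm_apply]⟩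
    · have hx' : (x : H) ∈ τ₀.ker := e.injective (by rw [map_one]; exact hx)
      exact Subgroup.mem_center_iff.mpr fun g => Subtype.ext (Subgroup.mem_center_iff.mp (hkc hx') g)
    · have h2 := Subgroup.map_commutator (⊤ : Subgroup ↥(commutator H)) ⊤ (commutator H).subtype
      rw [← MonoidHom.range_eq_map, Subgroup.range_subtype, ← _root_.commutator_def] at h2
      obtain ⟨y, hy, hye⟩ := h2.ge (hD x.2)
      rwa [← Subtype.ext (show (y : H) = (x : H) from hye)]
  obtain ⟨-, hquot⟩ := CfsgLib.McLMult.multiplier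
  obtain ⟨π, hπ⟩ := hquot _ τ hstem
  have hker : (⟨⟨z ^ 47104, hmem⟩, hcomm'⟩ : ↥(commutator H)) ∈ τ.ker := by
    show e (τ₀ ⟨z ^ 47104, hmem⟩) = 1
    rw [show τ₀ ⟨z ^ 47104, hmem⟩ = 1 from Subtype.ext (by
      show σ (z ^ 47104) = 1
      rw [map_pow, MonoidHom.mem_ker.mp hz, one_pow]), map_one]
  obtain ⟨a, ha⟩ := hπ ⟨_, hker⟩
  have h3 : a ^ 3 = 1 := by
    have := pow_card_eq_one' (x := a)
    simpa using this
  have := congrArg π h3
  rw [map_pow, ha, map_one] at this
  have h' := congrArg (fun w : τ.ker => (((w : ↥(commutator H)) : H) : Γ)) this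
  rw [pow_mul]
  simpa using h'

theorem stem_ker {Γ : Type} [Group Γ] [Finite Γ] {σ : Γ →* ↥Spor.Co2} (hσ : Cfsg.IsStemExtension σ) :
    σ.ker = ⊥ := by
  classical
  have h23 : ∀ w ∈ σ.ker, w ^ 23 = 1 → w = 1 := fun w hw hwp => by
    haveI : Fact (Nat.Prime 23) := ⟨by norm_num⟩
    obtain ⟨g, hg⟩ := exists_prime_orderOf_dvd_card' (G := ↥Spor.Co2) 23 (by rw [card_spor_co2]; norm_num)
    refine CfsgPC.no_torsion_cyclic (p := 23) (g := g) (by norm_num) (hg ▸ pow_orderOf_eq_one g) (fun h => ?_) ?_ hσ hw hwp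
    · rw [h, orderOf_one] at hg; omega
    · rw [card_spor_co2]; norm_num
  rw [eq_bot_iff]
  intro z hz
  rw [Subgroup.mem_bot]
  have kill : ∀ {p : ℕ}, (∀ w ∈ σ.ker, w ^ p = 1 → w = 1) → ∀ (k m : ℕ), ∀ z ∈ σ.ker, z ^ (p ^ k * m) = 1 → z ^ m = 1 := by
    intro p h k
    induction k with
    | zero => intro m z _ hz; simpa using hz
    | succ k ih =>
      intro m z hzH hz
      refine h _ (pow_mem hzH m) ?_
      rw [← pow_mul, mul_comm]
      exact ih (p * m) z hzH (by rw [← hz]; congr 1; ring)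
  have h0 := other_torsion hσ hz
  rw [show 47104 * 3 = 2 ^ 11 * (23 ^ 1 * (3 ^ 1 * 1)) by norm_num] at h0
  have h1 := kill (fun w hw h => two_torsion hσ hw h) 11 _ z hz h0
  have h2 := kill h23 1 _ z hz h1
  have h3 := kill (fun w hw h => three_torsion hσ hw h) 1 _ z hz h2
  rwa [pow_one] at h3

theorem multiplier : Cfsg.HasCyclicSchurMultiplier ↥Spor.Co2 1 :=
  CfsgLib.SchurSmall.trivial_multiplier fun _ _ _ _ hσ => stem_ker hσ

end CfsgLib.CoTwoMult
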